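import Groth.Agent.S0736
import Groth.Agent.S9436
import Groth.Agent.WeakEt.Basic
import Groth.Agent.IndEtLib.Basic
import Mathlib

/-!
Lifting ind-étale algebras along a quotient map.
-/

set_option autoImplicit false
set_option backward.isDefEq.respectTransparency false
set_option backward.isDefEq.respectTransparency.types false
set_option linter.style.haveILetI false
set_option synthInstance.maxHeartbeats 200000
set_option maxHeartbeats 1600000

universe u

open CategoryTheory CategoryTheory.Limits TensorProduct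

namespace Groth.Agent.IndEtLift

variable (A : Type u) [CommRing A] (T : Type u) [CommRing T] [Algebra A T]

/-- étale algebras over `A` mapping to `T`, in a small model -/
structure Obj : Type u where
  n : ℕ
  J : Ideal (MvPolynomial (Fin n) A)
  et : Algebra.Etale A (MvPolynomial (Fin n) A ⧸ J)
  φ : (MvPolynomial (Fin n) A ⧸ J) →ₐ[A] T

variable {A T}

/-- the algebra of an object -/
abbrev Obj.E (X : Obj A T) : Type u := MvPolynomial (Fin X.n) A ⧸ X.J

instance (X : Obj A T) : Algebra.Etale A X.E := X.et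

noncomputable instance : Category.{u} (Obj A T) where
  Hom X Y := {f : X.E →ₐ[A] Y.E // Y.φ.comp f = X.φ}
  id X := ⟨AlgHom.id A X.E, AlgHom.comp_id X.φ⟩
  comp {X Y Z} f g := ⟨g.1.comp f.1, by rw [← AlgHom.comp_assoc, g.2, f.2]⟩
  id_comp f := Subtype.ext (AlgHom.comp_id f.1)
  comp_id f := Subtype.ext (AlgHom.id_comp f.1)
  assoc f g h := rfl

theorem exists_obj (E : Type u) [CommRing E] [Algebra A E] [Algebra.Etale A E] (φ : E →ₐ[A] T) :
    ∃ (X : Obj A T) (e : E ≃ₐ[A] X.E), X.φ.comp e.toAlgHom = φ := by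
  obtain ⟨n, f, hf, -⟩ := Algebra.FinitePresentation.out (R := A) (A := E)
  let e : (MvPolynomial (Fin n) A ⧸ RingHom.ker f.toRingHom) ≃ₐ[A] E := Ideal.quotientKerAlgEquivOfSurjective hf
  refine ⟨⟨n, _, Algebra.Etale.of_equiv e.symm, φ.comp e.toAlgHom⟩, e.symm, AlgHom.ext fun x => ?_⟩
  exact congrArg φ (e.apply_symm_apply x)

theorem exists_away_aux (E : Type u) [CommRing E] [Algebra A E] [Algebra.Etale A E] (φ : E →ₐ[A] T) (r : E)
    (hr : IsUnit (φ r)) : ∃ (Y : Obj A T) (f : E →ₐ[A] Y.E), Y.φ.comp f = φ ∧ IsUnit (f r) := by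
  haveI : Algebra.Etale E (Localization.Away r) := Algebra.Etale.of_isLocalizationAway r
  haveI : Algebra.Etale A (Localization.Away r) := Algebra.Etale.comp A E (Localization.Away r)
  obtain ⟨Y, e, he⟩ := exists_obj (Localization.Away r) (IsLocalization.Away.liftAlgHom r (f := φ) hr)
  refine ⟨Y, e.toAlgHom.comp (IsScalarTower.toAlgHom A E (Localization.Away r)), ?_,
    (IsLocalization.Away.algebraMap_isUnit (S := Localization.Away r) r).map e⟩
  rw [← AlgHom.comp_assoc, he]
  exact AlgHom.ext fun x => IsLocalization.Away.lift_eq r (g := φ.toRingHom) hr x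

theorem exists_sum_aux (E F : Type u) [CommRing E] [Algebra A E] [Algebra.Etale A E] [CommRing F] [Algebra A F]
    [Algebra.Etale A F] (φ : E →ₐ[A] T) (χ : F →ₐ[A] T) :
    ∃ (Z : Obj A T) (f : E →ₐ[A] Z.E) (g : F →ₐ[A] Z.E), Z.φ.comp f = φ ∧ Z.φ.comp g = χ := by
  haveI : Algebra.Etale A (E ⊗[A] F) := Algebra.Etale.comp A E (E ⊗[A] F)
  obtain ⟨Z, e, he⟩ := exists_obj (E ⊗[A] F) (Algebra.TensorProduct.productMap φ χ)
  refine ⟨Z, e.toAlgHom.comp Algebra.TensorProduct.includeLeft, e.toAlgHom.comp Algebra.TensorProduct.includeRight,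
    ?_, ?_⟩ <;> rw [← AlgHom.comp_assoc, he]
  · exact AlgHom.ext fun x => by simp
  · exact AlgHom.ext fun x => by simp

theorem exists_eq_aux (E F : Type u) [CommRing E] [Algebra A E] [Algebra.Etale A E] [CommRing F] [Algebra A F]
    [Algebra.Etale A F] (φ : E →ₐ[A] T) (χ : F →ₐ[A] T) (f g : E →ₐ[A] F) (hf : χ.comp f = φ) (hg : χ.comp g = φ) :
    ∃ (Z : Obj A T) (k : F →ₐ[A] Z.E), Z.φ.comp k = χ ∧ k.comp f = k.comp g := by
  obtain ⟨t, ht, ht1⟩ := (Algebra.FormallyUnramified.iff_exists_tensorProduct (R := A) (S := E)).mp inferInstance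
  let P : E ⊗[A] E →ₐ[A] F := Algebra.TensorProduct.productMap f g
  have hP : ∀ z, χ (P z) = φ (Algebra.TensorProduct.lmul' A z) := fun z => by
    induction z using TensorProduct.induction_on with
    | zero => simp
    | tmul a b =>
      simp only [P, Algebra.TensorProduct.productMap_apply_tmul, map_mul, Algebra.TensorProduct.lmul'_apply_tmul]
      congr 1
      · exact congr($hf a)
      · exact congr($hg b)
    | add a b ha hb => simp only [map_add, ha, hb]
  obtain ⟨Z, k, hk, hu⟩ := exists_away_aux F χ (P t) (by rw [hP, ht1, map_one]; exact isUnit_one)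
  refine ⟨Z, k, hk, AlgHom.ext fun x => ?_⟩
  have h0 : (g x - f x) * P t = 0 := by
    have h1 := congrArg P (ht x)
    rw [map_zero, map_mul, map_sub] at h1
    simpa [P] using h1
  have h2 := congrArg k h0
  rw [map_mul, map_zero, map_sub, hu.mul_left_eq_zero, sub_eq_zero] at h2
  exact h2.symm

/-- inverting an element sent to a unit -/
theorem exists_away (X : Obj A T) (r : X.E) (hr : IsUnit (X.φ r)) :
    ∃ (Y : Obj A T) (f : X ⟶ Y), IsUnit (f.1 r) := by
  obtain ⟨Y, f, hf, hu⟩ := exists_away_aux X.E X.φ r hr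
  exact ⟨Y, ⟨f, hf⟩, hu⟩

instance : IsFiltered (Obj A T) where
  nonempty := ⟨(exists_obj A (Algebra.ofId A T)).choose⟩
  cocone_objs X Y := by
    obtain ⟨Z, f, g, hf, hg⟩ := exists_sum_aux X.E Y.E X.φ Y.φ
    exact ⟨Z, ⟨f, hf⟩, ⟨g, hg⟩, trivial⟩
  cocone_maps {X Y} f g := by
    obtain ⟨Z, k, hk, he⟩ := exists_eq_aux X.E Y.E X.φ Y.φ f.1 g.1 f.2 g.2
    exact ⟨Z, ⟨k, hk⟩, Subtype.ext he⟩

variable (A T) in
/-- the diagram -/
noncomputable def dia : Obj A T ⥤ Under (CommRingCat.of A) where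
  obj X := Under.mk (CommRingCat.ofHom (algebraMap A X.E))
  map {X Y} f := Under.homMk (CommRingCat.ofHom f.1.toRingHom)
    (CommRingCat.hom_ext (RingHom.ext fun a => f.1.commutes a))

theorem exists_indEtale_lift (I : Ideal A) (Cb : Type u) [CommRing Cb] [Algebra (A ⧸ I) Cb]
    (h : EtPBC.IsIndEtale (A ⧸ I) Cb) :
    ∃ (C : Type u) (_ : CommRing C) (_ : Algebra A C),
      EtPBC.IsIndEtale A C ∧ Nonempty ((C ⧸ I.map (algebraMap A C)) ≃ₐ[A ⧸ I] Cb) := by
  letI : Algebra A Cb := ((algebraMap (A ⧸ I) Cb).comp (algebraMap A (A ⧸ I))).toAlgebra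
  haveI : IsScalarTower A (A ⧸ I) Cb := IsScalarTower.of_algebraMap_eq fun _ => rfl
  let D := dia A Cb
  let c : Cocone D := colimit.cocone D
  let hc : IsColimit c := colimit.isColimit D
  let G := Under.forget (CommRingCat.of A) ⋙ forget CommRingCat.{u}
  have hF : IsColimit (G.mapCocone c) := isColimitOfPreserves G hc
  let C : Type u := c.pt.right
  letI : Algebra A C := c.pt.hom.hom.toAlgebra
  let ι : ∀ X : Obj A Cb, X.E →ₐ[A] C := fun X =>
    { (c.ι.app X).right.hom with commutes' := fun a => congr($(Under.w (c.ι.app X)) a) }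
  have hι : ∀ x : C, ∃ (X : Obj A Cb) (y : X.E), ι X y = x := fun x => Types.jointly_surjective _ hF x
  have hιw : ∀ {X Y : Obj A Cb} (f : X ⟶ Y) (y : X.E), ι Y (f.1 y) = ι X y := fun f y =>
    congr(($(c.w f)).right y)
  have hind : EtPBC.IsIndEtale A C := by
    refine ⟨Obj A Cb, inferInstance, inferInstance, D, c, hc, fun X => ?_, ⟨Iso.refl _⟩⟩
    change @Algebra.Etale A X.E _ _ (algebraMap A X.E).toAlgebra
    rw [show (algebraMap A X.E).toAlgebra = (inferInstance : Algebra A X.E) from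
      Algebra.algebra_ext _ _ fun r => rfl]
    infer_instance
  let s : Cocone D :=
    { pt := Under.mk (CommRingCat.ofHom (algebraMap A Cb))
      ι :=
        { app := fun X => Under.homMk (CommRingCat.ofHom X.φ.toRingHom)
            (CommRingCat.hom_ext (RingHom.ext fun a => X.φ.commutes a))
          naturality := fun X Y f => Under.UnderMorphism.ext (CommRingCat.hom_ext
            (RingHom.ext fun x => congr($(f.2) x))) } }
  let ψ : C →ₐ[A] Cb :=
    { (hc.desc s).right.hom with commutes' := fun a => congr($(Under.w (hc.desc s)) a) }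
  have hψι : ∀ (X : Obj A Cb) (y : X.E), ψ (ι X y) = X.φ y := fun X y => congr(($(hc.fac s X)).right y)
  have hunit : ∀ z : C, IsUnit (ψ z) → IsUnit z := fun z hz => by
    obtain ⟨X, y, rfl⟩ := hι z
    obtain ⟨Y, f, hf⟩ := exists_away X y (by rwa [← hψι])
    rw [← hιw f]
    exact hf.map (ι Y)
  have hsurj : Function.Surjective ψ := fun b => by
    obtain ⟨sys⟩ := Groth.Agent.IndEtLib.exists_system h
    obtain ⟨S, -, hS⟩ := sys.surj {b}
    obtain ⟨x, hx⟩ := hS b (Finset.mem_singleton_self b)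
    obtain ⟨E, _, _, hE, ⟨e⟩⟩ := Groth.Agent.S9436.result A I S.E
    haveI := hE
    let φ : E →ₐ[A] Cb :=
      ((S.φ.comp e.toAlgHom).restrictScalars A).comp (Algebra.TensorProduct.includeRight : E →ₐ[A] (A ⧸ I) ⊗[A] E)
    have hz : ∀ z : (A ⧸ I) ⊗[A] E, ∃ y : E, 1 ⊗ₜ[A] y = z := fun z => by
      induction z using TensorProduct.induction_on with
      | zero => exact ⟨0, tmul_zero _ _⟩
      | tmul a y =>
        obtain ⟨a, rfl⟩ := Ideal.Quotient.mk_surjective a
        refine ⟨a • y, ?_⟩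
        rw [tmul_smul, smul_tmul', ← Ideal.Quotient.algebraMap_eq, Algebra.algebraMap_eq_smul_one]
      | add u v hu hv =>
        obtain ⟨p, rfl⟩ := hu
        obtain ⟨q, rfl⟩ := hv
        exact ⟨p + q, tmul_add _ _ _⟩
    obtain ⟨y, hy⟩ := hz (e.symm x)
    obtain ⟨X, e', he'⟩ := exists_obj E φ
    refine ⟨ι X (e' y), ?_⟩
    rw [hψι, show X.φ (e' y) = φ y from congr($he' y)]
    change S.φ (e (1 ⊗ₜ[A] y)) = b
    rw [hy, e.apply_symm_apply, hx]
  -- pass to the quotient
  let Q : Type u := C ⧸ I.map (algebraMap A C)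
  have hkill : ∀ z ∈ I.map (algebraMap A C), ψ.toRingHom z = 0 := fun z hz => by
    refine (Ideal.map_le_iff_le_comap.mpr (fun a ha => ?_) : I.map (algebraMap A C) ≤ RingHom.ker ψ.toRingHom) hz
    change ψ (algebraMap A C a) = 0
    rw [ψ.commutes, IsScalarTower.algebraMap_apply A (A ⧸ I) Cb, Ideal.Quotient.algebraMap_eq,
      Ideal.Quotient.eq_zero_iff_mem.mpr ha, map_zero]
  let ρ : Q →+* Cb := Ideal.Quotient.lift _ ψ.toRingHom hkill
  let ρ' : Q →ₐ[A ⧸ I] Cb :=
    { ρ with
      commutes' := fun a => by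
        obtain ⟨a, rfl⟩ := Ideal.Quotient.mk_surjective a
        exact ψ.commutes a }
  have hρs : Function.Surjective ρ' := fun b => by
    obtain ⟨z, hz⟩ := hsurj b
    exact ⟨Ideal.Quotient.mk _ z, hz⟩
  have hρu : ∀ q : Q, IsUnit (ρ' q) → IsUnit q := fun q hq => by
    obtain ⟨z, rfl⟩ := Ideal.Quotient.mk_surjective q
    exact (hunit z hq).map (Ideal.Quotient.mk _)
  haveI : Algebra.WeaklyEtale A C := Groth.Agent.S0736.result A C hind
  haveI : Algebra.WeaklyEtale (A ⧸ I) Cb := Groth.Agent.S0736.result (A ⧸ I) Cb h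
  let eq : ((A ⧸ I) ⊗[A] C) ≃ₐ[A ⧸ I] Q := (Algebra.TensorProduct.quotIdealMapEquivQuotTensor C I).symm
  let ρ'' : (A ⧸ I) ⊗[A] C →ₐ[A ⧸ I] Cb := ρ'.comp eq.toAlgHom
  letI : Algebra ((A ⧸ I) ⊗[A] C) Cb := ρ''.toRingHom.toAlgebra
  haveI : IsScalarTower (A ⧸ I) ((A ⧸ I) ⊗[A] C) Cb := IsScalarTower.of_algebraMap_eq fun a => (ρ''.commutes a).symm
  haveI : Algebra.WeaklyEtale ((A ⧸ I) ⊗[A] C) Cb :=
    Groth.Agent.WeakEt.weaklyEtale_of_comp (A ⧸ I) ((A ⧸ I) ⊗[A] C) Cb
  have hs'' : Function.Surjective ρ''.toRingHom := hρs.comp eq.surjective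
  have hflat : ρ''.toRingHom.Flat := by
    change Module.Flat ((A ⧸ I) ⊗[A] C) Cb
    infer_instance
  haveI : (RingHom.ker ρ''.toRingHom).Pure := (Groth.Agent.WeakEt.flat_iff_kernel_pure hs'').1 hflat
  have hinj : Function.Injective ρ' := by
    rw [injective_iff_map_eq_zero]
    intro q hq
    obtain ⟨x, rfl⟩ := eq.surjective q
    obtain ⟨y, hy, hxy⟩ := Ideal.exists_eq_mul_of_pure (I := RingHom.ker ρ''.toRingHom) (x := x) hq
    have hu : IsUnit (eq (1 - y)) := hρu _ (by
      change IsUnit (ρ'' (1 - y))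
      rw [map_sub, map_one, show ρ'' y = 0 from hy, sub_zero]
      exact isUnit_one)
    have hz : x * (1 - y) = 0 := by rw [mul_sub, mul_one, ← hxy, sub_self]
    have h3 := congrArg eq hz
    rw [map_mul, map_zero, hu.mul_left_eq_zero] at h3
    exact h3
  exact ⟨C, inferInstance, inferInstance, hind, ⟨AlgEquiv.ofBijective ρ' ⟨hinj, hρs⟩⟩⟩

end Groth.Agent.IndEtLift
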